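import Cfsg.Agent.H844.Gow.DC
import Cfsg.Agent.HN.Distinct
import Cfsg.Prelude.Def_Sporadic

/-!
# S4913 for the Harada-Norton group (helper844)

The nine double cosets of `2.HS.2`: the eigenvalue 128 of the collapsed matrix belongs to the rational character of
degree 16929.
-/

set_option autoImplicit false
set_option maxRecDepth 100000

namespace Cfsg.Agent.H844.Gow.HN

open Cfsg Cfsg.Agent.H707.OddLift Cfsg.Agent.H636.Gow
open Cfsg.Agent.HN Cfsg.Agent.HN.Index Cfsg.Agent.HN.DCover Cfsg.Agent.HN.Pres Cfsg.Agent.HN.NormalH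

/-- uniqueness of the eigenvector from a certificate -/
theorem uniq_of_cert {m : ℕ} (B : Fin m → Fin m → ℚ) (s : ℚ) (a' : Fin m → ℚ)
    (h : ∀ i, ∑ j, B i j * a' j = s * a' i) (i₀ : Fin m) (a : Fin m → ℚ) (c : Fin m → Fin m → ℚ)
    (hc : ∀ i l, ∑ j, c i j * (B j l - if j = l then s else 0) = (if i = l then 1 else 0) - if l = i₀ then a i else 0)
    (i : Fin m) : a' i = a' i₀ * a i := by
  have h1 : ∑ l, (∑ j, c i j * (B j l - if j = l then s else 0)) * a' l = 0 := by
    simp only [Finset.sum_mul]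
    rw [Finset.sum_comm]
    refine Finset.sum_eq_zero fun j _ => ?_
    have h2 : ∑ l, (B j l - if j = l then s else 0) * a' l = 0 := by
      simp only [sub_mul, ite_mul, zero_mul, Finset.sum_sub_distrib, Finset.sum_ite_eq, Finset.mem_univ, if_true]
      rw [h, sub_self]
    have h3 : ∀ l, c i j * (B j l - if j = l then s else 0) * a' l =
        c i j * ((B j l - if j = l then s else 0) * a' l) := fun l => mul_assoc _ _ _
    rw [Finset.sum_congr rfl fun l _ => h3 l, ← Finset.mul_sum, h2, mul_zero]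
  have h4 : ∑ l, (∑ j, c i j * (B j l - if j = l then s else 0)) * a' l = a' i - a i * a' i₀ := by
    rw [Finset.sum_congr rfl fun l _ => by rw [hc i l]]
    simp only [sub_mul, ite_mul, zero_mul, one_mul, Finset.sum_sub_distrib, Finset.sum_ite_eq, Finset.sum_ite_eq',
      Finset.mem_univ, if_true]
  rw [h4] at h1
  linarith

/-- the eigenvector -/
def a : Fin 9 → ℚ := ![1, 1/11, 1/11, 0, 1/77, -1/154, 0, 5/77, 0]

/-- the sizes -/
def k : Fin 9 → ℕ := ![1, 1408, 2200, 35200, 123200, 354816, 739200, 5775, 277200]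

/-- certificates -/
def c : Fin 9 → Fin 9 → ℚ := ![
  ![0, 0, 0, 0, 0, 0, 0, 0, 0],
  ![1/1408, 0, 0, 0, 0, 0, 0, 0, 0],
  ![2669/3696000, 4/2625, -67/6720, -11/420, -1/40, -3/500, 0, 0, 21/320],
  ![173/16800000, 173/131250, 71/168000, 13/4200, -3/2000, 33/3125, 0, 0, -21/1600],
  ![34061/323400000, 227/459375, -17/1176000, -151/29400, -19/14000, -141/21875, 0, 0, 21/1600],
  ![-4997/103488000, 23/73500, 39/62720, 1/294, 1/210, -61/14000, 0, 0, -1/256],
  ![-1/480000, -1/3750, -1/2400, 0, -1/300, 3/625, 0, 0, 0],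
  ![79801/161700000, -811/459375, -437/98000, -173/7350, -139/2625, -537/21875, 1/10, 0, 3/400],
  ![-1/2400000, -1/18750, 7/16000, -1/600, 31/6000, -101/25000, 0, 0, 3/3200]]

theorem hs (i : Fin 9) : ∑ j, (kk i j : ℚ) * a j = 128 * a i := by
  revert i
  decide +kernel

theorem hc : ∀ i l : Fin 9, ∑ j, c i j * ((kk j l : ℚ) - if j = l then 128 else 0) =
    (if i = l then 1 else 0) - if l = 0 then a i else 0 := by
  decide +kernel

theorem hsum : (16929 : ℚ) * ∑ i, (k i : ℚ) * a i ^ 2 = ∑ i, (k i : ℚ) := by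
  decide +kernel

theorem hk (i : Fin 9) : Count.sz H (w9 i) = k i := by
  have s0 : Count.sz H (w9 0) = 1 := by rw [w9_zero]; exact Count.sz_one H
  have s1 : Count.sz H (w9 0) * 1408 = Count.sz H (w9 1) * 1 := balance Distinct.hdis 0 1
  have s2 : Count.sz H (w9 1) * 50 = Count.sz H (w9 2) * 32 := balance Distinct.hdis 1 2
  have s3 : Count.sz H (w9 1) * 450 = Count.sz H (w9 3) * 18 := balance Distinct.hdis 1 3
  have s4 : Count.sz H (w9 1) * 350 = Count.sz H (w9 4) * 4 := balance Distinct.hdis 1 4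
  have s5 : Count.sz H (w9 1) * 504 = Count.sz H (w9 5) * 2 := balance Distinct.hdis 1 5
  have s6 : Count.sz H (w9 2) * 672 = Count.sz H (w9 6) * 2 := balance Distinct.hdis 2 6
  have s7 : Count.sz H (w9 6) * 10 = Count.sz H (w9 7) * 1280 := balance Distinct.hdis 6 7
  have s8 : Count.sz H (w9 6) * 240 = Count.sz H (w9 8) * 640 := balance Distinct.hdis 6 8
  fin_cases i
  · exact s0
  · show Count.sz H (w9 1) = 1408
    omega
  · show Count.sz H (w9 2) = 2200
    omega
  · show Count.sz H (w9 3) = 35200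
    omega
  · show Count.sz H (w9 4) = 123200
    omega
  · show Count.sz H (w9 5) = 354816
    omega
  · show Count.sz H (w9 6) = 739200
    omega
  · show Count.sz H (w9 7) = 5775
    omega
  · show Count.sz H (w9 8) = 277200
    omega

theorem model : RatOdd Spor.HN :=
  ratOdd_of_dc H w9 ht Distinct.hdis covers ptH (Nat.card (Count.stab P1408.ψ 0)) (Count.card_stab_pos _ _).ne'
    card_ptH τ mul_mem_doubleCoset kk card_τ 0 w9_zero a 128 hs
    (fun a' h i => uniq_of_cert (fun i j => (kk i j : ℚ)) 128 a' h 0 a c hc i) rfl k hk 16929 (by decide) (by decide)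
    hsum

end Cfsg.Agent.H844.Gow.HN

namespace Cfsg.Agent.H844.Gow

open Cfsg Cfsg.Agent.H636.Gow

theorem hn {K : Type*} [Group K] [Finite K] (h : Spor.IsoHN K) : RatOdd K := by
  obtain ⟨e⟩ := h
  exact RatOdd.of_equiv e HN.model

end Cfsg.Agent.H844.Gow
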