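import Cfsg.Agent.H707.Odd.EigenDeg
import Cfsg.Agent.HN.Count

/-!
# Rational irreducible characters of odd degree from a double coset enumeration (helper844, for S4913)

`K ≤ G` with double coset representatives `w i`, an element `t` and the local counts `kk i j` (the number of
points `q` with `w_i h t ∈ K w_j K` for `pt h = q`), as in `HN.Count`. A simple rational eigenvalue of `kk` of odd
degree gives `RatOdd G`.
-/

set_option autoImplicit false

namespace Cfsg.Agent.H844.Gow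

open Cfsg Cfsg.Agent.H707.OddLift Cfsg.Agent.H636.Gow Cfsg.Agent.H707.Odd
open Cfsg.Agent.HN.Count

universe u

variable {G : Type u} [Group G] [Finite G] (K : Subgroup G) {m n : ℕ} (w : Fin m → G) (t : G)

theorem card_pnt (S : Set (G ⧸ K)) : Nat.card {x : G // pnt K x ∈ S} = Nat.card K * Nat.card S := by
  have e1 : {x : G // pnt K x ∈ S} ≃ ((QuotientGroup.mk : G → G ⧸ K) ⁻¹' S) :=
    (Equiv.inv G).subtypeEquiv fun x => Iff.rfl
  rw [Nat.card_congr e1, Nat.card_congr (QuotientGroup.preimageMkEquivSubgroupProdSet K S), Nat.card_prod]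

theorem ratOdd_of_dc (hdis : ∀ i j, w j ∈ DoubleCoset.doubleCoset (w i) (K : Set G) (K : Set G) → i = j)
    (hcov : ∀ g, ∃ i, g ∈ DoubleCoset.doubleCoset (w i) (K : Set G) (K : Set G))
    (pt : K → Fin n) (N : ℕ) (hN : N ≠ 0) (hpt : ∀ q, Nat.card {h : K // pt h = q} = N)
    (τ : Fin m → Fin n → Fin m)
    (hτ : ∀ i (h : K), w i * h * t ∈ DoubleCoset.doubleCoset (w (τ i (pt h))) (K : Set G) (K : Set G))
    (kk : Fin m → Fin m → ℕ) (hkk : ∀ i j, (Finset.univ.filter (fun q => τ i q = j)).card = kk i j)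
    (i₀ : Fin m) (hi₀ : w i₀ = 1) (a : Fin m → ℚ) (s : ℚ) (hs : ∀ i, ∑ j, (kk i j : ℚ) * a j = s * a i)
    (huniq : ∀ a' : Fin m → ℚ, (∀ i, ∑ j, (kk i j : ℚ) * a' j = s * a' i) → ∀ i, a' i = a' i₀ * a i)
    (ha : a i₀ = 1) (k : Fin m → ℕ) (hk : ∀ i, sz K (w i) = k i) (d : ℕ) (hd : Odd d) (hd1 : d ≠ 1)
    (hsum : (d : ℚ) * ∑ i, (k i : ℚ) * a i ^ 2 = ∑ i, (k i : ℚ)) : RatOdd G := by
  classical
  have := Fintype.ofFinite G
  have := Fintype.ofFinite K
  have hN' : (N : ℚ) ≠ 0 := Nat.cast_ne_zero.2 hN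
  choose κ hκ using hcov
  have κiff : ∀ x i, κ x = i ↔ x ∈ DoubleCoset.doubleCoset (w i) (K : Set G) (K : Set G) := by
    intro x i
    constructor
    · rintro rfl
      exact hκ x
    · intro h
      obtain ⟨p, hp, q, hq, e⟩ := DoubleCoset.mem_doubleCoset.1 h
      obtain ⟨p', hp', q', hq', e'⟩ := DoubleCoset.mem_doubleCoset.1 (hκ x)
      refine (hdis _ _ (DoubleCoset.mem_doubleCoset.2 ⟨p'⁻¹ * p, K.mul_mem (K.inv_mem hp') hp, q * q'⁻¹,
        K.mul_mem hq (K.inv_mem hq'), ?_⟩)).symm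
      calc w (κ x) = p'⁻¹ * (p' * w (κ x) * q') * q'⁻¹ := by group
        _ = p'⁻¹ * (p * w i * q) * q'⁻¹ := by rw [← e', ← e]
        _ = _ := by group
  have κl : ∀ h ∈ K, ∀ x, κ (h * x) = κ x := by
    intro h hh x
    rw [κiff]
    obtain ⟨p, hp, q, hq, e⟩ := DoubleCoset.mem_doubleCoset.1 (hκ x)
    refine DoubleCoset.mem_doubleCoset.2 ⟨h * p, K.mul_mem hh hp, q, hq, ?_⟩
    conv_lhs => rw [e]
    group
  have κr : ∀ x, ∀ h ∈ K, κ (x * h) = κ x := by
    intro x h hh
    rw [κiff]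
    obtain ⟨p, hp, q, hq, e⟩ := DoubleCoset.mem_doubleCoset.1 (hκ x)
    refine DoubleCoset.mem_doubleCoset.2 ⟨p, hp, q * h, K.mul_mem hq hh, ?_⟩
    conv_lhs => rw [e]
    group
  have κw : ∀ i, κ (w i) = i := fun i => (κiff _ _).2 (DoubleCoset.mem_doubleCoset.2 ⟨1, K.one_mem, 1, K.one_mem, by group⟩)
  have κ1 : κ 1 = i₀ := by rw [← hi₀, κw]
  have κt : ∀ i (h : K), κ (w i * h * t) = τ i (pt h) := fun i h => (κiff _ _).2 (hτ i h)
  -- the averaging step
  have step : ∀ (f : Fin m → ℚ) (x : G), ∑ h : K, f (κ (x * h * t)) = N * ∑ j, (kk (κ x) j : ℚ) * f j := by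
    intro f x
    obtain ⟨p, hp, q, hq, e⟩ := DoubleCoset.mem_doubleCoset.1 (hκ x)
    have e1 : ∑ h : K, f (κ (x * h * t)) = ∑ h : K, f (τ (κ x) (pt h)) := by
      rw [← Equiv.sum_comp (Equiv.mulLeft (⟨q, hq⟩ : K)) fun h => f (τ (κ x) (pt h))]
      refine Finset.sum_congr rfl fun h _ => ?_
      have e2 : x * (h : G) * t = p * (w (κ x) * ((⟨q, hq⟩ : K) * h : K) * t) := by
        conv_lhs => rw [e]
        rw [Subgroup.coe_mul]
        simp only [mul_assoc]
      rw [e2, κl p hp, κt]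
      rfl
    rw [e1, ← Finset.sum_fiberwise_of_maps_to (s := Finset.univ) (t := Finset.univ) (g := pt)
      (fun _ _ => Finset.mem_univ _)]
    have e3 : ∀ q' : Fin n, ∑ h ∈ Finset.univ.filter (fun h => pt h = q'), f (τ (κ x) (pt h)) =
        N * f (τ (κ x) q') := by
      intro q'
      have h1 : ∀ h ∈ Finset.univ.filter (fun h => pt h = q'), f (τ (κ x) (pt h)) = f (τ (κ x) q') := by
        intro h hh
        rw [(Finset.mem_filter.1 hh).2]
      rw [Finset.sum_congr rfl h1, Finset.sum_const, nsmul_eq_mul]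
      have h2 := hpt q'
      rw [Nat.card_eq_fintype_card, Fintype.card_subtype] at h2
      rw [h2]
    rw [Finset.sum_congr rfl fun q' _ => e3 q', ← Finset.mul_sum]
    congr 1
    rw [← Finset.sum_fiberwise_of_maps_to (s := Finset.univ) (t := Finset.univ) (g := τ (κ x))
      (fun _ _ => Finset.mem_univ _)]
    refine Finset.sum_congr rfl fun j _ => ?_
    have h1 : ∀ q' ∈ Finset.univ.filter (fun q' => τ (κ x) q' = j), f (τ (κ x) q') = f j := by
      intro q' hq'
      rw [(Finset.mem_filter.1 hq').2]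
    rw [Finset.sum_congr rfl h1, Finset.sum_const, nsmul_eq_mul, hkk]
  let V : Submodule ℚ (G → ℚ) :=
    { carrier := {φ | (∀ x, ∀ h ∈ K, φ (x * h) = φ x) ∧ ∀ x, ∑ h : K, φ (x * h * t) = N * s * φ x}
      add_mem' := by
        rintro φ ψ ⟨h1, h2⟩ ⟨h3, h4⟩
        refine ⟨fun x h hh => by rw [Pi.add_apply, Pi.add_apply, h1 x h hh, h3 x h hh], fun x => ?_⟩
        simp only [Pi.add_apply, Finset.sum_add_distrib, h2, h4]
        ring
      zero_mem' := ⟨fun _ _ _ => rfl, fun x => by simp⟩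
      smul_mem' := by
        rintro c φ ⟨h1, h2⟩
        refine ⟨fun x h hh => by rw [Pi.smul_apply, Pi.smul_apply, h1 x h hh], fun x => ?_⟩
        simp only [Pi.smul_apply, smul_eq_mul, ← Finset.mul_sum, h2]
        ring }
  have hVG : ∀ (g : G) (φ : G → ℚ), φ ∈ V → (fun x => φ (g * x)) ∈ V := by
    rintro g φ ⟨h1, h2⟩
    refine ⟨fun x h hh => ?_, fun x => ?_⟩
    · show φ (g * (x * h)) = φ (g * x)
      rw [← mul_assoc, h1 _ h hh]
    · have h3 := h2 (g * x)
      simp only [mul_assoc] at h3 ⊢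
      exact h3
  have he : (fun x => a (κ x)) ∈ V := by
    refine ⟨fun x h hh => by show a (κ (x * h)) = a (κ x); rw [κr x h hh], fun x => ?_⟩
    show ∑ h : K, a (κ (x * h * t)) = N * s * a (κ x)
    rw [step, hs]
    ring
  refine ratOdd_of_spherical (fun x y => ⟨y * x⁻¹, by rw [smul_eq_mul, inv_mul_cancel_right]⟩) V
    (fun g f hf => hVG g f hf) K (1 : G) ?_ (fun x => a (κ x)) he ?_ (by show a (κ 1) = 1; rw [κ1, ha]) ?_ d hd hd1 ?_
  · intro f hf q hq
    have h1 := hf.1 1 q hq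
    rw [one_mul] at h1
    rw [smul_eq_mul, mul_one]
    exact h1
  · intro q hq x
    show a (κ (q * x)) = a (κ x)
    rw [κl _ hq]
  · intro φ hφV hφ
    have hl : ∀ h ∈ K, ∀ x, φ (h * x) = φ x := hφ
    obtain ⟨hr, hT⟩ := hφV
    let a' : Fin m → ℚ := fun i => φ (w i)
    have haφ : ∀ x, φ x = a' (κ x) := by
      intro x
      obtain ⟨p, hp, q, hq, e⟩ := DoubleCoset.mem_doubleCoset.1 (hκ x)
      show _ = φ (w (κ x))
      conv_lhs => rw [e]
      rw [hr _ q hq, hl p hp]
    have hs' : ∀ i, ∑ j, (kk i j : ℚ) * a' j = s * a' i := by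
      intro i
      have h1 := hT (w i)
      have h2 := step a' (w i)
      rw [κw] at h2
      have h3 : ∑ h : K, φ (w i * h * t) = ∑ h : K, a' (κ (w i * h * t)) :=
        Finset.sum_congr rfl fun h _ => haφ _
      rw [h3, h2] at h1
      exact mul_left_cancel₀ hN' (by rw [h1]; ring)
    refine ⟨a' i₀, funext fun x => ?_⟩
    show φ x = a' i₀ * a (κ x)
    rw [haφ, huniq a' hs']
  · have hfib : ∀ i, ((Finset.univ.filter fun x : G => κ x = i).card : ℚ) = Nat.card K * k i := by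
      intro i
      have h1 := card_pnt K (MulAction.orbit K (pnt K (w i)))
      have h2 : Nat.card (MulAction.orbit K (pnt K (w i))) = k i := hk i
      rw [h2] at h1
      have h3 : Nat.card {x : G // κ x = i} = Nat.card {x : G // pnt K x ∈ MulAction.orbit K (pnt K (w i))} :=
        Nat.card_congr (Equiv.subtypeEquivRight fun x => by rw [mem_orbit_iff', κiff])
      rw [h1, Nat.card_eq_fintype_card, Fintype.card_subtype] at h3
      rw [h3]
      push_cast
      ring
    have h1 : ∀ f : Fin m → ℚ, ∑ y : G, f (κ y) = Nat.card K * ∑ i, (k i : ℚ) * f i := by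
      intro f
      rw [← Finset.sum_fiberwise_of_maps_to (s := Finset.univ) (t := Finset.univ) (g := κ)
        (fun _ _ => Finset.mem_univ _), Finset.mul_sum]
      refine Finset.sum_congr rfl fun i _ => ?_
      have h2 : ∀ y ∈ Finset.univ.filter (fun y => κ y = i), f (κ y) = f i := by
        intro y hy
        rw [(Finset.mem_filter.1 hy).2]
      rw [Finset.sum_congr rfl h2, Finset.sum_const, nsmul_eq_mul, hfib]
      ring
    have h3 := h1 fun _ => 1
    simp only [mul_one, Finset.sum_const, nsmul_eq_mul, Finset.card_univ] at h3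
    have h4 := h1 fun i => a i ^ 2
    show (d : ℚ) * ∑ y : G, a (κ y) ^ 2 = _
    rw [h3, h4, ← hsum]
    ring

end Cfsg.Agent.H844.Gow
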